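import Cfsg.Agent.H5.C7.Tens
import Cfsg.Agent.H99.TensorU.Layer

/-!
A space of matrices on a tensor power of a unitary space that is stable under the factor isometries and the
permutations of the factors, closed under the operations of square zero skew elements, and contains a monomial
isotropic matrix, is everything.
-/

set_option autoImplicit false
set_option linter.unusedSectionVars false

namespace Cfsg.Agent.H99.TensorWreathSU

open Matrix
open Cfsg.Agent.H5.C7 (wm sl wm_apply wm_mul wm_one sl_one)
open Cfsg.Agent.H99.TensorU (sp sp_star sp_zero_comm sp_zero_left sp_zero_right sp_add_left sp_add_right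
  sp_sub_right sp_smul_left sp_smul_right sp_single_left vmv_mul vmv_conjTranspose vmv_mulVec vmv_conj
  vmv_smul_left vmv_smul_right exists_move exists_skew exists_iso_not_perp₂ finrank_perp partner
  skew_scalar_of_iso)

variable {F : Type*} [Field F] [StarRing F] {J : Type} [Fintype J] [DecidableEq J] {m : ℕ}

local notation "MM" => Matrix (J → Fin m) (J → Fin m) F
local notation "mm" => Matrix (Fin m) (Fin m) F

/-- The projection-like matrix of a vector. -/
def prj (v : Fin m → F) : Matrix (Fin m) (Fin m) F := vecMulVec v (star v)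

theorem prj_mul_self {v : Fin m → F} (hv : sp v v = 0) : prj v * prj v = 0 := by
  rw [prj, vmv_mul, hv, zero_smul]

theorem trace_vmv (u v : Fin m → F) : (vecMulVec u (star v)).trace = sp v u := by
  rw [trace_vecMulVec, dotProduct_comm, sp]

theorem prj_conjTranspose (v : Fin m → F) : (prj v)ᴴ = prj v := vmv_conjTranspose v v

theorem wm1_mul (k l : J → mm) : (wm 1 k : MM) * wm 1 l = wm 1 fun j => k j * l j := by
  rw [wm_mul, one_mul]
  rfl

theorem wm1_update (k : J → mm) (i : J) (Z : mm) :
    (wm 1 (Function.update k i Z) : MM) = sl i Z * wm 1 (Function.update k i 1) := by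
  rw [sl, wm1_mul]
  congr 1
  funext j
  by_cases h : j = i
  · subst h; simp
  · simp [h]

theorem wm1_zero {k : J → mm} {j : J} (h : k j = 0) : (wm 1 k : MM) = 0 := by
  ext f g
  rw [wm_apply, Matrix.zero_apply]
  exact Finset.prod_eq_zero (Finset.mem_univ j) (by rw [h]; rfl)

theorem wm1_conjTranspose (k : J → mm) : (wm 1 k : MM)ᴴ = wm 1 fun j => (k j)ᴴ := by
  ext f g
  simp only [Matrix.conjTranspose_apply, wm_apply, Equiv.Perm.one_apply, star_prod]

theorem sl_conj (l : J) (g : mm) (k : J → mm) :
    (sl l g : MM) * wm 1 k * (sl l g)ᴴ = wm 1 (Function.update k l (g * k l * gᴴ)) := by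
  rw [sl, wm1_conjTranspose, wm1_mul, wm1_mul]
  congr 1
  funext j
  by_cases h : j = l
  · subst h; simp
  · simp [h]

theorem perm_conjTranspose (σ : Equiv.Perm J) :
    (wm σ (fun _ => 1) : MM)ᴴ = wm σ⁻¹ fun _ => 1 := by
  ext f g
  simp only [Matrix.conjTranspose_apply, wm_apply, star_prod, Matrix.one_apply]
  rw [← Equiv.prod_comp σ⁻¹ (fun j => star (if g j = f (σ j) then (1 : F) else 0))]
  refine Finset.prod_congr rfl fun j _ => ?_
  simp [eq_comm, apply_ite star]

theorem perm_conj (σ : Equiv.Perm J) (k : J → mm) :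
    (wm σ (fun _ => 1) : MM) * wm 1 k * (wm σ (fun _ => 1))ᴴ = wm 1 fun j => k (σ j) := by
  rw [perm_conjTranspose, wm_mul, wm_mul, one_mul, inv_mul_cancel]
  simp

/-- A slot of a monomial as a linear map. -/
def slot (k : J → mm) (a : J) : mm →ₗ[F] MM where
  toFun Z := wm 1 (Function.update k a Z)
  map_add' Y Z := by
    rw [wm1_update k a (Y + Z), Cfsg.Agent.H5.C7.sl_add, Matrix.add_mul, ← wm1_update, ← wm1_update]
  map_smul' c Z := by
    rw [wm1_update k a (c • Z), Cfsg.Agent.H5.C7.sl_smul, Matrix.smul_mul, ← wm1_update, RingHom.id_apply]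

theorem slot_apply (k : J → mm) (a : J) (Z : mm) :
    slot k a Z = (wm 1 (Function.update k a Z) : MM) := rfl

/-- Membership of monomials extends slot by slot to the spans. -/
theorem extend (A : Submodule F MM) (G : J → Set mm) (h : ∀ k, (∀ j, k j ∈ G j) → wm 1 k ∈ A) :
    ∀ k, (∀ j, k j ∈ Submodule.span F (G j)) → wm 1 k ∈ A := by
  have key : ∀ s : Finset J, ∀ k, (∀ j ∈ s, k j ∈ Submodule.span F (G j)) → (∀ j, j ∉ s → k j ∈ G j) →
      wm 1 k ∈ A := by
    intro s
    induction s using Finset.induction with
    | empty => exact fun k _ h2 => h k fun j => h2 j (Finset.notMem_empty j)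
    | insert a s ha ih =>
      intro k h1 h2
      have hle : Submodule.span F (G a) ≤ A.comap (slot k a) := Submodule.span_le.2 fun Z hZ => by
        refine ih _ (fun j hj => ?_) (fun j hj => ?_)
        · rw [Function.update_of_ne (fun e => ha (by rw [← e]; exact hj))]
          exact h1 j (Finset.mem_insert_of_mem hj)
        · by_cases hja : j = a
          · subst hja; rwa [Function.update_self]
          · rw [Function.update_of_ne hja]
            exact h2 j (by simp [hja, hj])
      have := hle (h1 a (Finset.mem_insert_self a s))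
      rwa [Submodule.mem_comap, slot_apply, Function.update_eq_self] at this
  exact fun k hk => key Finset.univ k (fun j _ => hk j) fun j hj => absurd (Finset.mem_univ j) hj

section

variable [Finite F] (hns : ∃ x : F, star x ≠ x)
include hns

/-- Isotropic vectors give all matrices of trace zero. -/
theorem trace_zero_mem_span {X : mm} (hX : X.trace = 0) :
    X ∈ Submodule.span F (prj '' {v : Fin m → F | sp v v = 0}) := by
  by_contra hc
  obtain ⟨φ, hφX, hφ⟩ := Submodule.exists_dual_map_eq_bot_of_notMem hc inferInstance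
  set Y : mm := Matrix.of fun i j => φ (single j i 1) with hY
  have hφY : ∀ Z : mm, φ Z = (Y * Z).trace := by
    intro Z
    conv_lhs => rw [matrix_eq_sum_single Z]
    simp only [map_sum, Matrix.trace, Matrix.diag_apply, Matrix.mul_apply, hY, Matrix.of_apply]
    rw [Finset.sum_comm]
    refine Finset.sum_congr rfl fun i _ => Finset.sum_congr rfl fun j _ => ?_
    rw [show single j i (Z j i) = Z j i • single j i (1 : F) by rw [smul_single, smul_eq_mul, mul_one],
      map_smul, smul_eq_mul, mul_comm]
  have hv : ∀ v : Fin m → F, sp v v = 0 → sp v (Y *ᵥ v) = 0 := by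
    intro v hv
    have h0 : φ (prj v) = 0 := by
      have : φ (prj v) ∈ (Submodule.span F (prj '' {v : Fin m → F | sp v v = 0})).map φ :=
        Submodule.mem_map_of_mem (Submodule.subset_span ⟨v, hv, rfl⟩)
      rwa [hφ, Submodule.mem_bot] at this
    rw [hφY, prj, Matrix.mul_vecMulVec, trace_vecMulVec, dotProduct_comm] at h0
    exact h0
  have hv' : ∀ v : Fin m → F, sp v v = 0 → sp v (Yᴴ *ᵥ v) = 0 := by
    intro v h
    have : sp v (Yᴴ *ᵥ v) = sp (Y *ᵥ v) v := by
      rw [sp, sp, star_mulVec, ← dotProduct_mulVec]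
    rw [this, ← sp_star, hv v h, star_zero]
  have hsk : ∀ x : F, ∃ c : F, x • Y - star x • Yᴴ = c • (1 : mm) := by
    intro x
    refine skew_scalar_of_iso hns ?_ fun v h => ?_
    · rw [conjTranspose_sub, conjTranspose_smul, conjTranspose_smul, conjTranspose_conjTranspose, star_star,
        neg_sub]
    · rw [sub_mulVec, smul_mulVec, smul_mulVec, TensorU.sp_sub_right, sp_smul_right, sp_smul_right, hv v h,
        hv' v h, mul_zero, mul_zero, sub_zero]
  obtain ⟨x, hx⟩ := id hns
  obtain ⟨c₁, h₁⟩ := hsk 1
  obtain ⟨c₂, h₂⟩ := hsk x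
  rw [star_one, one_smul, one_smul] at h₁
  have hsc : Y = ((c₂ - star x * c₁) / (x - star x)) • (1 : mm) := by
    have hx' : x - star x ≠ 0 := sub_ne_zero.2 (Ne.symm hx)
    have e : (x - star x) • Y = (c₂ - star x * c₁) • (1 : mm) := by
      rw [sub_smul, sub_smul, ← h₂, mul_smul, ← h₁, smul_sub]
      abel
    rw [div_eq_inv_mul, mul_smul, ← e, smul_smul, inv_mul_cancel₀ hx', one_smul]
  apply hφX
  rw [hφY, hsc, Matrix.smul_mul, Matrix.one_mul, trace_smul, hX, smul_zero]

variable {A : Submodule F (Matrix (J → Fin m) (J → Fin m) F)}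
  (hconj : ∀ (l : J) (g : Matrix (Fin m) (Fin m) F), g * gᴴ = 1 → g.det = 1 → ∀ X ∈ A, sl l g * X * (sl l g)ᴴ ∈ A)
include hconj

/-- An isotropic slot moves to any isotropic slot. -/
theorem move_slot {k : J → mm} {a : J} {x y : Fin m → F} (hx : sp x x = 0) (hy : sp y y = 0)
    (hyx : sp y x ≠ 0) (h : (wm 1 (Function.update k a (prj x)) : MM) ∈ A) :
    (wm 1 (Function.update k a (prj y)) : MM) ∈ A := by
  obtain ⟨d, hd0, hd⟩ := exists_skew hns
  obtain ⟨g, hg, hgd, hgx⟩ := exists_move hx hy hyx hd0 hd
  have hμ : d * sp y x ≠ 0 := mul_ne_zero hd0 hyx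
  have := hconj a g hg hgd _ h
  rw [sl_conj, Function.update_self, Function.update_idem, prj, vmv_conj, hgx, vmv_smul_left, vmv_smul_right,
    smul_smul, ← slot_apply, map_smul, slot_apply] at this
  exact (A.smul_mem_iff (mul_ne_zero hμ (star_ne_zero.2 hμ))).1 this

theorem move_any (hm : 2 ≤ m) {k : J → mm} {a : J} {x y : Fin m → F} (hx0 : x ≠ 0) (hx : sp x x = 0)
    (hy : sp y y = 0) (h : (wm 1 (Function.update k a (prj x)) : MM) ∈ A) :
    (wm 1 (Function.update k a (prj y)) : MM) ∈ A := by
  rcases eq_or_ne y 0 with rfl | hy0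
  · rw [wm1_zero (j := a) (by simp [prj])]
    exact A.zero_mem
  obtain ⟨z, hz, hxz, hyz⟩ := exists_iso_not_perp₂ hns (by rw [Fintype.card_fin]; exact hm) hx0 hy0
  exact move_slot hns hconj hz hy hyz
    (move_slot hns hconj hx hz (fun e => hxz (sp_zero_comm.1 e)) h)

/-- An isotropic slot becomes any slot of trace zero. -/
theorem slot_trace (hm : 2 ≤ m) {k : J → mm} {a : J} {x : Fin m → F} (hx0 : x ≠ 0) (hx : sp x x = 0)
    (h : (wm 1 (Function.update k a (prj x)) : MM) ∈ A) {Z : mm} (hZ : Z.trace = 0) :
    (wm 1 (Function.update k a Z) : MM) ∈ A := by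
  have hle : Submodule.span F (prj '' {v : Fin m → F | sp v v = 0}) ≤ A.comap (slot k a) := by
    rw [Submodule.span_le]
    rintro - ⟨v, hv, rfl⟩
    exact move_any hns hconj hm hx0 hx hv h
  exact hle (trace_zero_mem_span hns hZ)

/-- One monomial isotropic matrix on a set of slots gives all of them. -/
theorem iso_all (hm : 2 ≤ m) (S : Finset J) {w : J → Fin m → F} (hw : ∀ j ∈ S, w j ≠ 0 ∧ sp (w j) (w j) = 0)
    (h : (wm 1 (fun j => if j ∈ S then prj (w j) else 1) : MM) ∈ A) (u : J → Fin m → F)
    (hu : ∀ j ∈ S, sp (u j) (u j) = 0) : (wm 1 (fun j => if j ∈ S then prj (u j) else 1) : MM) ∈ A := by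
  have key : ∀ s : Finset J, s ⊆ S →
      (wm 1 (fun j => if j ∈ s then prj (u j) else if j ∈ S then prj (w j) else 1) : MM) ∈ A := by
    intro s
    induction s using Finset.induction with
    | empty => intro _; simpa using h
    | insert a s ha ih =>
      intro hs
      have haS : a ∈ S := hs (Finset.mem_insert_self a s)
      set k : J → mm := fun j => if j ∈ s then prj (u j) else if j ∈ S then prj (w j) else 1 with hk
      have h0 : (wm 1 (Function.update k a (prj (w a))) : MM) ∈ A := by
        rw [show prj (w a) = k a by simp [hk, ha, haS], Function.update_eq_self]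
        exact ih fun j hj => hs (Finset.mem_insert_of_mem hj)
      convert move_any hns hconj hm (hw a haS).1 (hw a haS).2 (hu a haS) h0 using 2
      funext j
      by_cases hja : j = a
      · subst hja; simp
      · simp [hk, hja]
  convert key S subset_rfl using 2
  funext j
  by_cases hj : j ∈ S <;> simp [hj]

end

/-- All monomials with slots of trace zero on a set and the identity elsewhere. -/
def Full (A : Submodule F MM) (S : Finset J) : Prop :=
  ∀ k : J → mm, (∀ j ∈ S, (k j).trace = 0) → (∀ j, j ∉ S → k j = 1) → (wm 1 k : MM) ∈ A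

/-- A linear condition on monomials with slots of trace zero follows from the isotropic ones. -/
theorem of_iso [Finite F] (hns : ∃ x : F, star x ≠ x) (B : Submodule F MM) (S : Finset J)
    (h : ∀ u : J → Fin m → F, (∀ j ∈ S, sp (u j) (u j) = 0) →
      (wm 1 (fun j => if j ∈ S then prj (u j) else 1) : MM) ∈ B) : Full B S := by
  intro k hk hk'
  refine extend B (fun j => if j ∈ S then prj '' {v : Fin m → F | sp v v = 0} else {1}) (fun l hl => ?_) k
    fun j => ?_
  · have : ∀ j, ∃ v : Fin m → F, j ∈ S → sp v v = 0 ∧ prj v = l j := fun j => by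
      by_cases hj : j ∈ S
      · obtain ⟨v, hv, hvl⟩ : l j ∈ prj '' {v : Fin m → F | sp v v = 0} := by simpa [hj] using hl j
        exact ⟨v, fun _ => ⟨hv, hvl⟩⟩
      · exact ⟨0, fun e => absurd e hj⟩
    choose u hu using this
    convert h u (fun j hj => (hu j hj).1) using 2
    funext j
    by_cases hj : j ∈ S
    · rw [if_pos hj, (hu j hj).2]
    · simpa [hj] using hl j
  · by_cases hj : j ∈ S
    · simp only [if_pos hj]
      exact trace_zero_mem_span hns (hk j hj)
    · simp only [if_neg hj, hk' j hj]
      exact Submodule.subset_span rfl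

section Closure

variable [Finite F] (hns : ∃ x : F, star x ≠ x) {A : Submodule F (Matrix (J → Fin m) (J → Fin m) F)}
  (hcl : ∀ X ∈ A, Xᴴ = -X → X * X = 0 → ∀ G ∈ A, X * G + G * X ∈ A ∧ X * G * X ∈ A)
include hns hcl

theorem herm_cl {H : MM} (hH : H ∈ A) (hh : Hᴴ = H) (h2 : H * H = 0) {G : MM} (hG : G ∈ A) :
    H * G + G * H ∈ A ∧ H * G * H ∈ A := by
  obtain ⟨d, hd0, hd⟩ := exists_skew hns
  obtain ⟨h1, h3⟩ := hcl (d • H) (A.smul_mem d hH) (by rw [conjTranspose_smul, hh, hd, neg_smul])
    (by rw [Matrix.smul_mul, Matrix.mul_smul, h2, smul_zero, smul_zero]) G hG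
  rw [Matrix.smul_mul, Matrix.mul_smul, ← smul_add] at h1
  rw [Matrix.smul_mul, Matrix.smul_mul, Matrix.mul_smul, smul_smul] at h3
  exact ⟨(A.smul_mem_iff hd0).1 h1, (A.smul_mem_iff (mul_ne_zero hd0 hd0)).1 h3⟩

/-- Anticommutators with monomials of trace zero. -/
theorem anti_cl {S : Finset J} (hS : S.Nonempty) (hF : Full A S) {k : J → mm}
    (hk : ∀ j ∈ S, (k j).trace = 0) (hk' : ∀ j, j ∉ S → k j = 1) {G : MM} (hG : G ∈ A) :
    wm 1 k * G + G * wm 1 k ∈ A := by
  obtain ⟨j0, hj0⟩ := hS
  refine of_iso hns (A.comap (LinearMap.mulRight F G + LinearMap.mulLeft F G)) S (fun u hu => ?_) k hk hk'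
  simp only [Submodule.mem_comap, LinearMap.add_apply, LinearMap.mulLeft_apply, LinearMap.mulRight_apply]
  refine (herm_cl hns hcl (hF _ (fun j hj => ?_) fun j hj => if_neg hj) ?_ ?_ hG).1
  · simp only [if_pos hj, prj, trace_vmv]
    exact hu j hj
  · rw [wm1_conjTranspose]
    congr 1
    funext j
    by_cases hj : j ∈ S <;> simp [hj, prj_conjTranspose]
  · rw [wm1_mul]
    exact wm1_zero (j := j0) (by simp [hj0, prj_mul_self (hu j0 hj0)])

end Closure

/-- Products of matrices of trace zero span everything. -/
theorem one_mem_span_mul (hm : 2 ≤ m) :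
    (1 : mm) ∈ Submodule.span F {Z : mm | ∃ P Q : mm, P.trace = 0 ∧ Q.trace = 0 ∧ Z = P * Q} := by
  rw [show (1 : mm) = ∑ i : Fin m, single i i (1 : F) by rw [sum_single_one]]
  refine Submodule.sum_mem _ fun i _ => Submodule.subset_span ?_
  have : Nontrivial (Fin m) := Fin.nontrivial_iff_two_le.2 hm
  obtain ⟨j, hji⟩ := exists_ne i
  exact ⟨single i j 1, single j i 1, trace_single_eq_of_ne _ _ _ hji.symm,
    trace_single_eq_of_ne _ _ _ hji, by simp⟩

variable [Finite F] (hns : ∃ x : F, star x ≠ x) {A : Submodule F (Matrix (J → Fin m) (J → Fin m) F)}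
  (hconj : ∀ (l : J) (g : Matrix (Fin m) (Fin m) F), g * gᴴ = 1 → g.det = 1 → ∀ X ∈ A, sl l g * X * (sl l g)ᴴ ∈ A)
  (hperm : ∀ σ : Equiv.Perm J, ∀ X ∈ A, wm σ (fun _ => 1) * X * (wm σ (fun _ => 1))ᴴ ∈ A)
  (hcl : ∀ X ∈ A, Xᴴ = -X → X * X = 0 → ∀ G ∈ A, X * G + G * X ∈ A ∧ X * G * X ∈ A)
include hns

/-- Two vectors orthogonal to an isotropic vector but not to each other. -/
theorem exists_pair (hm : 3 ≤ m) {w : Fin m → F} (hw : w ≠ 0) (hww : sp w w = 0) :
    ∃ y y', sp w y = 0 ∧ sp w y' = 0 ∧ sp y y' ≠ 0 := by
  obtain ⟨w', -, h1, -⟩ := partner hns hw hww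
  obtain ⟨U, hU, hU'⟩ := finrank_perp ![w, w']
  obtain ⟨y, hy, hy0⟩ := Submodule.exists_mem_ne_zero_of_ne_bot (p := U) fun h => by
    rw [h, finrank_bot, Fintype.card_fin] at hU; omega
  obtain ⟨i, hi⟩ := Function.ne_iff.1 hy0
  have h2 : sp w' y = 0 := hU' y hy 1
  have h3 : sp y w' = 0 := sp_zero_comm.1 h2
  refine ⟨y, Pi.single i 1 - sp w (Pi.single i 1) • w', hU' y hy 0, ?_, ?_⟩
  · rw [TensorU.sp_sub_right, sp_smul_right, h1, mul_one, sub_self]
  · rw [TensorU.sp_sub_right, sp_smul_right, h3, mul_zero, sub_zero, ← sp_star, sp_single_left]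
    exact star_ne_zero.2 hi

include hconj hperm hcl

/-- A single slot of trace zero. -/
theorem single_slot (hm : 3 ≤ m) {S : Finset J} (hS : S.Nonempty) (hF : Full A S) (l : J) (Z : mm)
    (hZ : Z.trace = 0) : (sl l Z : MM) ∈ A := by
  obtain ⟨j0, hj0⟩ := hS
  obtain ⟨w, -, hw0, hww⟩ := TensorU.exists_iso_in hns (⊤ : Submodule F (Fin m → F)) (by simp; omega)
  obtain ⟨y, y', hy, hy', hyy⟩ := exists_pair hns hm hw0 hww
  set a0 := vecMulVec w (star y) with ha0
  set c0 := vecMulVec y' (star w) with hc0
  have ta : a0.trace = 0 := by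
    rw [ha0, trace_vecMulVec, dotProduct_comm]; exact sp_zero_comm.1 hy
  have tc : c0.trace = 0 := by rw [hc0, trace_vecMulVec, dotProduct_comm]; exact hy'
  have hca : c0 * a0 = 0 := by rw [hc0, ha0, vmv_mul, hww, zero_smul]
  have hac : a0 * c0 = sp y y' • prj w := by rw [hc0, ha0, vmv_mul, prj]
  -- products in the other slots
  have h1 : (sl j0 (prj w) : MM) ∈ A := by
    refine extend A (fun j => if j = j0 then {prj w} else if j ∈ S then
      {Z : mm | ∃ P Q : mm, P.trace = 0 ∧ Q.trace = 0 ∧ Z = P * Q} else {1}) (fun k hk => ?_) _ fun j => ?_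
    · have : ∀ j, ∃ P Q : mm, j ≠ j0 → j ∈ S → P.trace = 0 ∧ Q.trace = 0 ∧ k j = P * Q := fun j => by
        by_cases hj : j ≠ j0 ∧ j ∈ S
        · obtain ⟨P, Q, hPQ⟩ : ∃ P Q : mm, P.trace = 0 ∧ Q.trace = 0 ∧ k j = P * Q := by
            simpa [hj.1, hj.2] using hk j
          exact ⟨P, Q, fun _ _ => hPQ⟩
        · exact ⟨0, 0, fun e1 e2 => absurd ⟨e1, e2⟩ hj⟩
      choose P Q hPQ using this
      set p : J → mm := fun j => if j = j0 then a0 else if j ∈ S then P j else 1 with hp
      set q : J → mm := fun j => if j = j0 then c0 else if j ∈ S then Q j else 1 with hq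
      have hpA : (wm 1 p : MM) ∈ A := hF p (fun j hj => by
        by_cases h : j = j0
        · simp [hp, h, ta]
        · simp [hp, h, hj, (hPQ j h hj).1]) fun j hj => by
          have : j ≠ j0 := fun e => hj (e ▸ hj0)
          simp [hp, this, hj]
      have := anti_cl hns hcl ⟨j0, hj0⟩ hF (k := q) (fun j hj => by
        by_cases h : j = j0
        · simp [hq, h, tc]
        · simp [hq, h, hj, (hPQ j h hj).2.1]) (fun j hj => by
          have : j ≠ j0 := fun e => hj (e ▸ hj0)
          simp [hq, this, hj]) hpA
      rw [wm1_mul, wm1_mul, wm1_zero (j := j0) (by simp [hp, hq, hca]), zero_add,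
        show (fun j => p j * q j) = Function.update k j0 (sp y y' • k j0) by
          funext j
          by_cases h : j = j0
          · subst h
            have hkj : k j = prj w := by simpa using hk j
            simp [hp, hq, hac, hkj]
          · rw [Function.update_of_ne h]
            by_cases hj : j ∈ S
            · simp [hp, hq, h, hj, (hPQ j h hj).2.2]
            · have hkj : k j = 1 := by simpa [h, hj] using hk j
              simp [hp, hq, h, hj, hkj],
        ← slot_apply, map_smul, slot_apply, Function.update_eq_self] at this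
      exact (A.smul_mem_iff hyy).1 this
    · by_cases h : j = j0
      · subst h
        simp [Submodule.mem_span_singleton_self]
      · rw [Function.update_of_ne h]
        by_cases hj : j ∈ S
        · simp only [if_neg h, if_pos hj]
          exact one_mem_span_mul (by omega)
        · simp [h, hj, Submodule.mem_span_singleton_self]
  have h2 : ∀ Z : mm, Z.trace = 0 → (sl j0 Z : MM) ∈ A := fun Z hZ =>
    slot_trace hns hconj (by omega) hw0 hww h1 hZ
  have := hperm (Equiv.swap j0 l) _ (h2 Z hZ)
  rw [sl, perm_conj] at this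
  convert this using 1
  rw [sl]
  congr 1
  funext j
  by_cases hj : j = l
  · subst hj; simp
  · rw [Function.update_of_ne hj, Function.update_of_ne]
    exact fun e => hj (by rw [Equiv.swap_apply_eq_iff, Equiv.swap_apply_left] at e; exact e)

omit hconj hperm hcl hns in
theorem top_of_monomials (h : ∀ k : J → mm, (wm 1 k : MM) ∈ A) : A = ⊤ := by
  rw [eq_top_iff]
  intro X _
  rw [matrix_eq_sum_single X]
  refine A.sum_mem fun f _ => A.sum_mem fun g _ => ?_
  have e : (single f g (X f g) : MM) = X f g • wm 1 fun j => single (f j) (g j) (1 : F) := by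
    ext f' g'
    simp only [Matrix.smul_apply, wm_apply, Equiv.Perm.one_apply, smul_eq_mul]
    by_cases hfg : f = f' ∧ g = g'
    · obtain ⟨rfl, rfl⟩ := hfg
      simp
    · rw [Matrix.single_apply, if_neg hfg]
      obtain ⟨j, hj⟩ : ∃ j, ¬ (f j = f' j ∧ g j = g' j) := by
        by_contra hc
        push Not at hc
        exact hfg ⟨funext fun j => (hc j).1, funext fun j => (hc j).2⟩
      rw [Finset.prod_eq_zero (Finset.mem_univ j) (by rw [Matrix.single_apply, if_neg hj]), mul_zero]
  rw [e]
  exact A.smul_mem _ (h _)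

omit hconj hperm hcl hns in
/-- An algebra. -/
theorem top_of_alg (hm : 2 ≤ m) (h1 : 1 ∈ A) (halg : ∀ X ∈ A, ∀ Y ∈ A, X * Y ∈ A)
    (hsl : ∀ l Z, Matrix.trace Z = 0 → (sl l Z : MM) ∈ A) : A = ⊤ := by
  have : Nontrivial (Fin m) := Fin.nontrivial_iff_two_le.2 hm
  have hall : ∀ (l : J) (Z : mm), (sl l Z : MM) ∈ A := by
    intro l Z
    have hsingle : ∀ i j : Fin m, (sl l (single i j (1 : F)) : MM) ∈ A := by
      intro i j
      by_cases hij : i = j
      · subst hij
        obtain ⟨t, ht⟩ := exists_ne i
        have := halg _ (hsl l _ (trace_single_eq_of_ne i t (1 : F) ht.symm)) _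
          (hsl l _ (trace_single_eq_of_ne t i (1 : F) ht))
        rw [Cfsg.Agent.H5.C7.sl_mul] at this
        simpa using this
      · exact hsl l _ (trace_single_eq_of_ne i j (1 : F) hij)
    have : Z ∈ A.comap (slot (fun _ => 1) l) := by
      rw [matrix_eq_sum_single Z]
      refine Submodule.sum_mem _ fun i _ => Submodule.sum_mem _ fun j _ => ?_
      rw [show single i j (Z i j) = Z i j • single i j (1 : F) by rw [smul_single, smul_eq_mul, mul_one]]
      exact Submodule.smul_mem _ _ (hsingle i j)
    exact this
  refine top_of_monomials fun k => ?_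
  have key : ∀ s : Finset J, (wm 1 (fun j => if j ∈ s then k j else 1) : MM) ∈ A := by
    intro s
    induction s using Finset.induction with
    | empty => simpa [wm_one] using h1
    | insert a s ha ih =>
      convert halg _ (hall a (k a)) _ ih using 1
      rw [sl, wm1_mul]
      congr 1
      funext j
      by_cases hja : j = a
      · subst hja; simp [ha]
      · simp [hja]
  simpa using key Finset.univ

omit hperm in
/-- Odd characteristic in dimension three. -/
theorem top_odd (hm : 2 ≤ m) (h2 : (2 : F) ≠ 0) (h1 : 1 ∈ A)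
    (hsl : ∀ l Z, Matrix.trace Z = 0 → (sl l Z : MM) ∈ A) : A = ⊤ := by
  have hF : ∀ l, Full A {l} := by
    intro l k hk hk'
    convert hsl l (k l) (hk l (Finset.mem_singleton_self l)) using 1
    rw [sl]
    congr 1
    funext j
    by_cases hj : j = l
    · subst hj; simp
    · simp [hj, hk' j (by simpa using hj)]
  have key : ∀ s : Finset J, ∀ k : J → mm, (∀ j, j ∉ s → k j = 1) → (wm 1 k : MM) ∈ A := by
    intro s
    induction s using Finset.induction with
    | empty =>
      intro k hk
      rw [show k = fun _ => 1 from funext fun j => hk j (Finset.notMem_empty j), wm_one]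
      exact h1
    | insert l s hl ih =>
      intro k hk
      have hG : (wm 1 (Function.update k l 1) : MM) ∈ A := ih _ fun j hj => by
        by_cases hjl : j = l
        · subst hjl; simp
        · rw [Function.update_of_ne hjl]; exact hk j (by simp [hjl, hj])
      have hanti : ∀ (P : mm) (Q : mm), P.trace = 0 → (wm 1 (Function.update k l Q) : MM) ∈ A →
          (wm 1 (Function.update k l (P * Q + Q * P)) : MM) ∈ A := by
        intro P Q hP hQ
        have := anti_cl hns hcl (Finset.singleton_nonempty l) (hF l) (k := Function.update (fun _ => 1) l P)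
          (fun j hj => by rw [Finset.mem_singleton.1 hj, Function.update_self]; exact hP)
          (fun j hj => by rw [Function.update_of_ne (by simpa using hj)]) hQ
        have e : ∀ X Y : mm, (fun j => Function.update (fun _ => (1 : mm)) l X j * Function.update k l Y j) =
            Function.update k l (X * Y) ∧
            (fun j => Function.update k l Y j * Function.update (fun _ => (1 : mm)) l X j) =
            Function.update k l (Y * X) := fun X Y => by
          constructor <;> funext j <;> by_cases hj : j = l <;> simp [hj]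
        rw [wm1_mul, wm1_mul, (e P Q).1, (e P Q).2, ← slot_apply, ← slot_apply, ← map_add, slot_apply] at this
        exact this
      have hT : ∀ Z : mm, Z.trace = 0 → (wm 1 (Function.update k l Z) : MM) ∈ A := by
        intro Z hZ
        have := hanti Z 1 hZ hG
        rw [Matrix.mul_one, Matrix.one_mul, ← two_smul F Z, ← slot_apply, map_smul, slot_apply] at this
        exact (A.smul_mem_iff h2).1 this
      have : Nontrivial (Fin m) := Fin.nontrivial_iff_two_le.2 hm
      obtain ⟨a, b, hab⟩ := exists_pair_ne (Fin m)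
      set E : mm := single a a 1 + single b b 1 with hE
      have hEA : (wm 1 (Function.update k l E) : MM) ∈ A := by
        have := hanti (single a b 1) (single b a 1) (trace_single_eq_of_ne _ _ _ hab)
          (hT _ (trace_single_eq_of_ne _ _ _ hab.symm))
        rwa [single_mul_single_same, single_mul_single_same, mul_one] at this
      have htr : E.trace = 2 := by
        rw [hE, trace_add, trace_single_eq_same, trace_single_eq_same]; norm_num
      set c := (k l).trace / 2 with hc
      have h3 := hT (k l - c • E) (by rw [trace_sub, trace_smul, htr, hc, smul_eq_mul, div_mul_cancel₀ _ h2, sub_self])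
      rw [← slot_apply, map_sub, map_smul, slot_apply, slot_apply, Function.update_eq_self] at h3
      simpa using A.add_mem h3 (A.smul_mem c hEA)
  exact top_of_monomials fun k => key Finset.univ k fun j hj => absurd (Finset.mem_univ j) hj

omit hperm in
/-- Characteristic two in dimension three. -/
theorem top_even (hm : 3 ≤ m) (h2 : (2 : F) = 0) (h3 : (m : F) ≠ 0) (h1 : 1 ∈ A)
    (hsl : ∀ l Z, Matrix.trace Z = 0 → (sl l Z : MM) ∈ A) : A = ⊤ := by
  have hfull : ∀ s : Finset J, Full A s := by
    intro s
    induction s using Finset.induction with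
    | empty =>
      intro k _ hk
      rw [show k = fun _ => 1 from funext fun j => hk j (Finset.notMem_empty j), wm_one]
      exact h1
    | insert l s hl ih =>
      intro k hk hk'
      rcases s.eq_empty_or_nonempty with rfl | ⟨j0, hj0⟩
      · convert hsl l (k l) (hk l (Finset.mem_insert_self l ∅)) using 1
        rw [sl]
        congr 1
        funext j
        by_cases hj : j = l
        · subst hj; simp
        · simp [hj, hk' j (by simp [hj])]
      obtain ⟨w, -, hw0, hww⟩ := TensorU.exists_iso_in hns (⊤ : Submodule F (Fin m → F)) (by simp; omega)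
      obtain ⟨y, y', hy, hy', hyy⟩ := exists_pair hns hm hw0 hww
      set a0 := vecMulVec w (star y) with ha0
      set c0 := vecMulVec y' (star w) with hc0
      have ta : a0.trace = 0 := by
        rw [ha0, trace_vecMulVec, dotProduct_comm]; exact sp_zero_comm.1 hy
      have tc : c0.trace = 0 := by rw [hc0, trace_vecMulVec, dotProduct_comm]; exact hy'
      have hne : l ≠ j0 := fun e => hl (e ▸ hj0)
      set G : MM := sl j0 c0 with hG
      -- the bilinear operation
      have hbil : ∀ (p : J → mm), (∀ j ∈ s, (p j).trace = 0) → (∀ j, j ∉ s → p j = 1) → ∀ Z : mm,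
          Z.trace = 0 → wm 1 p * G * sl l Z + sl l Z * G * wm 1 p ∈ A := by
        intro p hp hp' Z hZ
        have step : ∀ v : Fin m → F, sp v v = 0 →
            wm 1 p * G * sl l (prj v) + sl l (prj v) * G * wm 1 p ∈ A := by
          intro v hv
          refine of_iso hns (A.comap (LinearMap.mulRight F (G * sl l (prj v)) +
            LinearMap.mulLeft F (sl l (prj v) * G))) s (fun u hu => ?_) p hp hp' |> fun h => by
              simpa [Matrix.mul_assoc] using h
          set k1 : J → mm := fun j => if j ∈ s then prj (u j) else 1 with hk1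
          have a1 : (wm 1 k1 : MM) ∈ A := ih k1 (fun j hj => by
            simp only [hk1, if_pos hj, prj, trace_vmv]; exact hu j hj) fun j hj => if_neg hj
          have a2 : (sl l (prj v) : MM) ∈ A := hsl l _ (by
            rw [prj, trace_vmv]; exact hv)
          have b1 : (wm 1 k1 : MM)ᴴ = wm 1 k1 := by
            rw [wm1_conjTranspose]
            congr 1
            funext j
            by_cases hj : j ∈ s <;> simp [hk1, hj, prj_conjTranspose]
          have b2 : (sl l (prj v) : MM)ᴴ = sl l (prj v) := by
            rw [sl, wm1_conjTranspose]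
            congr 1
            funext j
            by_cases hj : j = l
            · subst hj; simp [prj_conjTranspose]
            · simp [hj]
          have c1 : (wm 1 k1 : MM) * wm 1 k1 = 0 := by
            rw [wm1_mul]
            exact wm1_zero (j := j0) (by simp [hk1, hj0, prj_mul_self (hu j0 hj0)])
          have c2 : (sl l (prj v) : MM) * sl l (prj v) = 0 := by
            rw [Cfsg.Agent.H5.C7.sl_mul, prj_mul_self hv, Cfsg.Agent.H5.C7.sl_zero]
          have c3 : (wm 1 k1 : MM) * sl l (prj v) = sl l (prj v) * wm 1 k1 := by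
            rw [sl, wm1_mul, wm1_mul]
            congr 1
            funext j
            by_cases hj : j = l
            · subst hj; simp [hk1, hl]
            · simp [hj]
          have hsq : ((wm 1 k1 : MM) + sl l (prj v)) * (wm 1 k1 + sl l (prj v)) = 0 := by
            rw [Matrix.add_mul, Matrix.mul_add, Matrix.mul_add, c1, c2, ← c3, zero_add, add_zero, ← two_smul F,
              h2, zero_smul]
          have hGA : G ∈ A := hsl j0 c0 tc
          have d0 := (herm_cl hns hcl (A.add_mem a1 a2) (by rw [conjTranspose_add, b1, b2]) hsq hGA).2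
          have d1 := (herm_cl hns hcl a1 b1 c1 hGA).2
          have d2 := (herm_cl hns hcl a2 b2 c2 hGA).2
          simp only [Submodule.mem_comap, LinearMap.add_apply, LinearMap.mulLeft_apply, LinearMap.mulRight_apply]
          convert A.sub_mem (A.sub_mem d0 d1) d2 using 1
          simp only [Matrix.add_mul, Matrix.mul_add, Matrix.mul_assoc]
          abel
        have hle : Submodule.span F (prj '' {v : Fin m → F | sp v v = 0}) ≤
            A.comap (((LinearMap.mulLeft F (wm 1 p * G)).comp (slot (fun _ => 1) l)) +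
              ((LinearMap.mulRight F (G * wm 1 p)).comp (slot (fun _ => 1) l))) := by
          rw [Submodule.span_le]
          rintro - ⟨v, hv, rfl⟩
          simpa [slot_apply, sl, Matrix.mul_assoc] using step v hv
        simpa [slot_apply, sl, Matrix.mul_assoc] using hle (trace_zero_mem_span hns hZ)
      set p : J → mm := fun j => if j = j0 then a0 else if j ∈ s then k j else 1 with hp
      have hb := hbil p (fun j hj => by
        by_cases h : j = j0
        · simp [hp, h, ta]
        · simp [hp, h, hj, hk j (Finset.mem_insert_of_mem hj)]) (fun j hj => by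
          have : j ≠ j0 := fun e => hj (e ▸ hj0)
          simp [hp, this, hj]) (k l) (hk l (Finset.mem_insert_self l s))
      have hzero : (sl l (k l) : MM) * G * wm 1 p = 0 := by
        rw [hG, sl, sl, wm1_mul, wm1_mul]
        exact wm1_zero (j := j0) (by simp [hp, hne.symm, hc0, ha0, vmv_mul, hww])
      rw [hzero, add_zero, hG, sl, sl, wm1_mul, wm1_mul,
        show (fun j => p j * Function.update (fun _ => (1 : mm)) j0 c0 j * Function.update (fun _ => (1 : mm)) l (k l) j) =
          Function.update k j0 (sp y y' • prj w) by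
          funext j
          by_cases h : j = j0
          · subst h; simp [hp, hne.symm, ha0, hc0, vmv_mul, prj]
          · by_cases hjl : j = l
            · subst hjl; simp [hp, h, hl]
            · by_cases hj : j ∈ s
              · simp [hp, h, hj, hjl]
              · simp [hp, h, hj, hjl, hk' j (by simp [hj, hjl])],
        ← slot_apply, map_smul, slot_apply] at hb
      have := slot_trace hns hconj (by omega) hw0 hww ((A.smul_mem_iff hyy).1 hb)
        (hk j0 (Finset.mem_insert_of_mem hj0))
      rwa [Function.update_eq_self] at this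
  refine top_of_monomials fun k => ?_
  refine extend A (fun _ => {Z : mm | Z.trace = 0} ∪ {1}) (fun l hl => ?_) k fun j => ?_
  · classical
    refine hfull (Finset.univ.filter fun j => l j ≠ 1) l (fun j hj => ?_) fun j hj => by simpa using hj
    rcases hl j with h | h
    · exact h
    · exact absurd h (Finset.mem_filter.1 hj).2
  · set c := (k j).trace / (m : F) with hc
    rw [show k j = (k j - c • 1) + c • 1 by abel]
    refine Submodule.add_mem _ (Submodule.subset_span (Or.inl ?_))
      (Submodule.smul_mem _ _ (Submodule.subset_span (Or.inr rfl)))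
    change (k j - c • (1 : mm)).trace = 0
    rw [trace_sub, trace_smul, trace_one, Fintype.card_fin, hc, smul_eq_mul, div_mul_cancel₀ _ h3, sub_self]

/-- The space is everything. -/
theorem fill (hm : 3 ≤ m) (h1 : 1 ∈ A) (halg : 4 ≤ m → ∀ X ∈ A, ∀ Y ∈ A, X * Y ∈ A)
    (hstart : ∃ (S : Finset J) (w : J → Fin m → F), S.Nonempty ∧ (∀ j ∈ S, w j ≠ 0 ∧ sp (w j) (w j) = 0) ∧
      wm 1 (fun j => if j ∈ S then vecMulVec (w j) (star (w j)) else 1) ∈ A) : A = ⊤ := by
  obtain ⟨S, w, hS, hw, hmem⟩ := hstart
  have hF : Full A S := of_iso hns A S fun u hu => iso_all hns hconj (by omega) S hw hmem u hu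
  have hsl : ∀ l Z, Matrix.trace Z = 0 → (sl l Z : MM) ∈ A := single_slot hns hconj hperm hcl hm hS hF
  rcases lt_or_ge m 4 with h4 | h4
  · obtain rfl : m = 3 := by omega
    by_cases h2 : (2 : F) = 0
    · exact top_even hns hconj hcl le_rfl h2 (fun h => one_ne_zero (α := F) (by
        push_cast at h; linear_combination h - h2)) h1 hsl
    · exact top_odd hns hconj hcl (by norm_num) h2 h1 hsl
  · exact top_of_alg (by omega) h1 (halg h4) hsl

end Cfsg.Agent.H99.TensorWreathSU
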